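import Cfsg.Agent.FGS.FpfModule
import Cfsg.Agent.Coprime.Generation
import Cfsg.Agent.Signalizer.PAction
import Cfsg.Agent.PGroup.Frattini

/-!
An element of prime order whose fixed points in a coprime group are centralised by an `s`-group
which it normalises: the commutators with that element centralise the group, outside the Fermat
exception.
-/

set_option autoImplicit false
set_option linter.unusedSectionVars false
set_option linter.style.haveILetI false

universe u v

namespace Cfsg.Agent.SignalizerAll

open Subgroup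
open Cfsg.Agent.FGS.HH (NonExc)

section Module

variable {A : Type u} [CommGroup A] [Finite A] {P : Type v} [Group P] [Finite P]

/-- The module form of the key lemma. -/
theorem trivial_of_fixed_centralized {r s t : ℕ} [Fact r.Prime] [Fact s.Prime] [Fact t.Prime]
    (htr : t ≠ r) (hts : t ≠ s) (hsr : s ≠ r) (hexp : ∀ w : A, w ^ t = 1)
    (σ : P →* MulAut A) (φ : MulAut P) (τ : MulAut A) (hP : IsPGroup s P)
    (hex : NonExc r s ∨ ∀ x y : P, x * y = y * x) (hφ : φ ^ r = 1) (hτ : τ ^ r = 1)
    (hστ : ∀ x, τ * σ x = σ (φ x) * τ) (hfix : ∀ w, τ w = w → ∀ x, σ x w = w) (x : P) :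
    σ (φ x) = σ x := by
  classical
  let k := AlgebraicClosure (ZMod t)
  haveI : CharP k t := charP_of_injective_algebraMap (algebraMap (ZMod t) k).injective t
  have hne : ∀ n : ℕ, n.Prime → t ≠ n → (n : k) ≠ 0 := fun n hn h e =>
    h ((Nat.prime_dvd_prime_iff_eq Fact.out hn).1 ((CharP.cast_eq_zero_iff k t n).1 e))
  have hrk : (r : k) ≠ 0 := hne r Fact.out htr
  have hsk : (s : k) ≠ 0 := hne s Fact.out hts
  let C : Subgroup A :=
    { carrier := {w | ∀ x : P, σ x w = w}
      one_mem' := fun x => map_one _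
      mul_mem' := fun {a b} ha hb x => by rw [map_mul, ha x, hb x]
      inv_mem' := fun {a} ha x => by rw [map_inv, ha x] }
  let V₁ : Submodule k (Additive A →+ k) :=
    { carrier := {f | ∀ w ∈ C, f (Additive.ofMul w) = 0}
      add_mem' := fun {f g} hf hg w hw => by simp [hf w hw, hg w hw]
      zero_mem' := fun w _ => rfl
      smul_mem' := fun c f hf w hw => by simp [hf w hw] }
  haveI : FiniteDimensional k (Additive A →+ k) :=
    Module.Finite.of_injective
      (({ toFun := fun f => ⇑f
          map_add' := fun _ _ => rfl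
          map_smul' := fun _ _ => rfl } : (Additive A →+ k) →ₗ[k] (Additive A → k)))
      DFunLike.coe_injective
  let pull : MulAut A → Module.End k (Additive A →+ k) := fun e =>
    { toFun := fun f => f.comp (MonoidHom.toAdditive e.symm.toMonoidHom)
      map_add' := fun _ _ => rfl
      map_smul' := fun _ _ => rfl }
  have pull_apply : ∀ (e : MulAut A) (f : Additive A →+ k) (w : A),
      pull e f (Additive.ofMul w) = f (Additive.ofMul (e.symm w)) := fun _ _ _ => rfl
  have ext' : ∀ {f g : Additive A →+ k},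
      (∀ w : A, f (Additive.ofMul w) = g (Additive.ofMul w)) → f = g :=
    fun h => DFunLike.ext _ _ fun w => h w.toMul
  let full : MulAut A →* Module.End k (Additive A →+ k) :=
    { toFun := pull
      map_one' := LinearMap.ext fun f => ext' fun w => rfl
      map_mul' := fun e₁ e₂ => LinearMap.ext fun f => ext' fun w => rfl }
  have hinv : ∀ e : MulAut A, (∀ w ∈ C, e.symm w ∈ C) → ∀ f ∈ V₁, full e f ∈ V₁ :=
    fun e he f hf w hw => hf _ (he w hw)
  have hσC : ∀ x, ∀ w ∈ C, (σ x).symm w ∈ C := fun x w hw => by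
    have h : (σ x).symm w = w := by
      rw [MulEquiv.symm_apply_eq]; exact (hw x).symm
    rw [h]; exact hw
  have hτC : ∀ w ∈ C, τ.symm w ∈ C := fun w hw y => by
    refine τ.injective ?_
    have e := congrArg (fun e : MulAut A => e (τ.symm w)) (hστ y)
    simp only [MulAut.mul_apply, MulEquiv.apply_symm_apply] at e
    rw [e, MulEquiv.apply_symm_apply]
    exact hw _
  let ρ : P →* Module.End k V₁ :=
    { toFun := fun x => (full (σ x)).restrict (hinv _ (hσC x))
      map_one' := LinearMap.ext fun f => Subtype.ext (by simp)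
      map_mul' := fun x y => LinearMap.ext fun f => Subtype.ext (by simp) }
  let T : Module.End k V₁ := (full τ).restrict (hinv τ hτC)
  have hpowT : ∀ (i : ℕ) (f : V₁), ((T ^ i) f : Additive A →+ k) = full (τ ^ i) f := by
    intro i
    induction i with
    | zero => intro f; simp
    | succ i ih =>
      intro f
      rw [pow_succ', Module.End.mul_apply, pow_succ', map_mul, Module.End.mul_apply, ← ih]
      rfl
  have hT : T ^ r = 1 := LinearMap.ext fun f => Subtype.ext (by
    rw [hpowT, hτ, map_one, Module.End.one_apply]; rfl)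
  have hρT : ∀ y, T * ρ y = ρ (φ y) * T := fun y => LinearMap.ext fun f => Subtype.ext (by
    show full τ (full (σ y) (f : Additive A →+ k)) = full (σ (φ y)) (full τ (f : Additive A →+ k))
    rw [← Module.End.mul_apply, ← Module.End.mul_apply, ← map_mul, ← map_mul, hστ])
  have hfixT : ∀ f, T f = f → f = 0 := by
    intro f hf
    refine Subtype.ext (ext' fun w => ?_)
    show (f : Additive A →+ k) (Additive.ofMul w) = 0
    have hstep : ∀ u : A, (f : Additive A →+ k) (Additive.ofMul (τ u)) =
        (f : Additive A →+ k) (Additive.ofMul u) := by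
      intro u
      have h := congrArg (fun g : V₁ => (g : Additive A →+ k) (Additive.ofMul (τ u))) hf
      change (f : Additive A →+ k) (Additive.ofMul (τ.symm (τ u))) = _ at h
      rw [MulEquiv.symm_apply_apply] at h
      exact h.symm
    have hpow : ∀ i : ℕ, (f : Additive A →+ k) (Additive.ofMul ((τ ^ i) w)) =
        (f : Additive A →+ k) (Additive.ofMul w) := by
      intro i
      induction i with
      | zero => rfl
      | succ i ih => rw [pow_succ', MulAut.mul_apply, hstep, ih]
    have hmem : (∏ i ∈ Finset.range r, (τ ^ i) w) ∈ C := by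
      refine fun y => hfix _ ?_ y
      rw [map_prod]
      have : ∀ i, τ ((τ ^ i) w) = (τ ^ (i + 1)) w := fun i => by
        rw [pow_succ', MulAut.mul_apply]
      simp only [this]
      have h1 := Finset.prod_range_succ' (fun i => (τ ^ i) w) r
      have h2 := Finset.prod_range_succ (fun i => (τ ^ i) w) r
      rw [h2, hτ, pow_zero, MulAut.one_apply] at h1
      exact (mul_right_cancel h1).symm
    have h0 := f.2 _ hmem
    rw [ofMul_prod, map_sum, Finset.sum_congr rfl (fun i _ => hpow i), Finset.sum_const,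
      Finset.card_range, nsmul_eq_mul] at h0
    exact (mul_eq_zero.1 h0).resolve_left hrk
  have hρ : ρ (φ x) = ρ x := by
    rcases hex with hex | hc
    · exact FGS.HH.centralizes (k := k) (V := V₁) hsr hex hrk hsk ρ φ T hP hφ hT hρT hfixT x
    · exact FGS.HH.centralizes_comm_image (k := k) (V := V₁) hsr hrk hsk ρ φ T hP
        (fun a b => by rw [Commute, SemiconjBy, ← map_mul, ← map_mul, hc]) hφ hT hρT hfixT x
  set y := (φ x)⁻¹ * x with hy
  have hρy : ρ y = 1 := by
    rw [hy, map_mul, ← hρ, ← map_mul, inv_mul_cancel, map_one]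
  -- `σ y⁻¹` is trivial modulo `C`
  have hmod : ∀ w : A, (σ y).symm w / w ∈ C := by
    intro w
    by_contra hnot
    set Q := A ⧸ C
    have hQ : ∀ q : Additive Q, t • q = 0 := fun q => by
      refine Additive.toMul.injective ?_
      obtain ⟨u, hu⟩ := QuotientGroup.mk_surjective q.toMul
      rw [toMul_nsmul, toMul_zero, ← hu, ← QuotientGroup.mk_pow, hexp, QuotientGroup.mk_one]
    letI : Module (ZMod t) (Additive Q) := AddCommGroup.zmodModule hQ
    set q₀ : Additive Q := Additive.ofMul ((((σ y).symm w / w : A) : Q))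
    have hq₀ : q₀ ≠ 0 := fun e => hnot ((QuotientGroup.eq_one_iff _).1 (congrArg Additive.toMul e))
    obtain ⟨g, hg⟩ : ∃ g : Additive Q →+ ZMod t, g q₀ ≠ 0 := by
      by_contra hc
      push Not at hc
      exact hq₀ ((Module.forall_dual_apply_eq_zero_iff (ZMod t) q₀).1 fun φ => hc φ.toAddMonoidHom)
    let f : Additive A →+ k := ((algebraMap (ZMod t) k).toAddMonoidHom.comp g).comp
      (MonoidHom.toAdditive (QuotientGroup.mk' C))
    have hf : f ∈ V₁ := fun u hu => by
      show algebraMap (ZMod t) k (g (Additive.ofMul (u : Q))) = 0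
      rw [(QuotientGroup.eq_one_iff u).2 hu, ofMul_one, map_zero, map_zero]
    have h1 : f (Additive.ofMul ((σ y).symm w)) = f (Additive.ofMul w) :=
      congrArg (fun e : Module.End k V₁ => (e ⟨f, hf⟩ : Additive A →+ k) (Additive.ofMul w)) hρy
    refine hg ((algebraMap (ZMod t) k).injective ?_)
    rw [map_zero]
    show f (Additive.ofMul ((σ y).symm w / w)) = 0
    rw [ofMul_div, map_sub, h1, sub_self]
  have hy1 : σ y⁻¹ = 1 := by
    refine MulEquiv.ext fun w => ?_
    obtain ⟨j, hj⟩ := hP (y⁻¹)
    have hsymm : (σ y).symm = σ y⁻¹ := (map_inv σ y).symm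
    have hu := hmod w
    rw [hsymm] at hu
    set u := σ y⁻¹ w / w with hudef
    have hw : σ y⁻¹ w = w * u := (mul_div_cancel w _).symm
    have hit : ∀ n : ℕ, σ (y⁻¹ ^ n) w = w * u ^ n := by
      intro n
      induction n with
      | zero => simp
      | succ n ih =>
        rw [pow_succ', map_mul, MulAut.mul_apply, ih, map_mul, map_pow (σ y⁻¹), hw, hu y⁻¹,
          pow_succ', mul_assoc]
    have h1 := hit (s ^ j)
    rw [hj, map_one, MulAut.one_apply, left_eq_mul] at h1
    have hu1 : u = 1 := by
      have hcop : Nat.Coprime (s ^ j) t :=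
        ((Nat.coprime_primes Fact.out Fact.out).2 hts.symm).pow_left j
      exact (pow_eq_one_iff_of_coprime hcop.symm).1 ⟨hexp u, h1⟩
    rw [hw, hu1, mul_one, MulAut.one_apply]
  have : σ (x⁻¹ * φ x) = 1 := by
    rw [show x⁻¹ * φ x = y⁻¹ by rw [hy, mul_inv_rev, inv_inv]]
    exact hy1
  rwa [map_mul, map_inv, inv_mul_eq_one, eq_comm] at this

end Module

section Group

variable {G : Type u} [Group G] [Finite G]

/-- If `P` centralises `C_F(a)` then `[P, a]` centralises `F`, unless `P` is a non-abelian
`2`-group and the order of `a` is a Fermat prime. -/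
theorem commutator_centralizes {r s t : ℕ} [Fact r.Prime] [Fact s.Prime] [Fact t.Prime]
    (htr : t ≠ r) (hts : t ≠ s) (hsr : s ≠ r) {F P : Subgroup G} {a : G} (ha : a ^ r = 1)
    (hF : IsPGroup t F) (hP : IsPGroup s P) (hex : NonExc r s ∨ IsMulCommutative P)
    (haF : a ∈ normalizer (F : Set G)) (haP : a ∈ normalizer (P : Set G))
    (hPF : P ≤ normalizer (F : Set G))
    (hC : F ⊓ centralizer {a} ≤ centralizer (P : Set G)) :
    ∀ x ∈ P, ∀ f ∈ F, (x * a * x⁻¹ * a⁻¹) * f = f * (x * a * x⁻¹ * a⁻¹) := by
  classical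
  set Φ := frattini F with hΦ
  have hquot : ∀ q : F ⧸ Φ, q ^ t = 1 := fun q => QuotientGroup.induction_on q fun f =>
    (QuotientGroup.eq_one_iff _).2 (PGroup.pow_mem_frattini hF f)
  letI : CommGroup (F ⧸ Φ) :=
    { (inferInstance : Group (F ⧸ Φ)) with
      mul_comm := fun p q => QuotientGroup.induction_on p fun f => QuotientGroup.induction_on q
        fun g => by
          rw [← QuotientGroup.mk_mul, ← QuotientGroup.mk_mul, QuotientGroup.eq]
          have := PGroup.commutatorElement_mem_frattini hF g⁻¹ f⁻¹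
          simpa [commutatorElement_def, mul_assoc] using this }
  let act : ↥(normalizer (F : Set G)) →* MulAut (F ⧸ Φ) :=
    { toFun := fun n => QuotientGroup.congr Φ Φ (F.normalizerMonoidHom n)
        (characteristic_iff_map_eq.1 inferInstance _)
      map_one' := MulEquiv.ext fun q => QuotientGroup.induction_on q fun f => by
        exact congrArg QuotientGroup.mk (show F.normalizerMonoidHom 1 f = f by rw [map_one]; rfl)
      map_mul' := fun m n => MulEquiv.ext fun q => QuotientGroup.induction_on q fun f => by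
        exact congrArg QuotientGroup.mk
          (show F.normalizerMonoidHom (m * n) f = _ by rw [map_mul]; rfl) }
  have act_mk : ∀ (n : ↥(normalizer (F : Set G))) (f : F),
      act n (QuotientGroup.mk f) = QuotientGroup.mk (F.normalizerMonoidHom n f) := fun _ _ => rfl
  let σ : P →* MulAut (F ⧸ Φ) := act.comp (inclusion hPF)
  let φ : MulAut P := P.normalizerMonoidHom ⟨a, haP⟩
  let τ : MulAut (F ⧸ Φ) := act ⟨a, haF⟩
  have hφ : φ ^ r = 1 := by
    rw [← map_pow, show (⟨a, haP⟩ : ↥(normalizer (P : Set G))) ^ r = 1 from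
      Subtype.ext (by simp [ha]), map_one]
  have hτ : τ ^ r = 1 := by
    rw [← map_pow, show (⟨a, haF⟩ : ↥(normalizer (F : Set G))) ^ r = 1 from
      Subtype.ext (by simp [ha]), map_one]
  have hστ : ∀ y, τ * σ y = σ (φ y) * τ := fun y => by
    show act _ * act _ = act _ * act _
    rw [← map_mul, ← map_mul]
    congr 1
    refine Subtype.ext ?_
    show a * (y : G) = (a * y * a⁻¹) * a
    group
  have hfix : ∀ q, τ q = q → ∀ y, σ y q = q := by
    refine fun q => QuotientGroup.induction_on q fun f hf y => ?_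
    have hf' : QuotientGroup.mk (F.normalizerMonoidHom ⟨a, haF⟩ f) = QuotientGroup.mk (s := Φ) f := hf
    have hmem := QuotientGroup.eq.1 hf'.symm
    have haΦ : zpowers a ≤ normalizer (Φ.map F.subtype : Set G) := zpowers_le.2
      (Coprime.normalizer_le_normalizer_map_characteristic F Φ haF)
    have hA : IsPGroup r (zpowers a) := by
      rintro ⟨_, i, rfl⟩
      refine ⟨1, Subtype.ext ?_⟩
      show (a ^ i) ^ r ^ 1 = 1
      rw [pow_one, ← zpow_natCast, ← zpow_mul, mul_comm, zpow_mul, zpow_natCast, ha, one_zpow]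
    have hpre : ∀ b ∈ zpowers a, ((f : G))⁻¹ * (b * f * b⁻¹) ∈ Φ.map F.subtype := by
      intro b hb
      let S : Subgroup G :=
        { carrier := {b | b ∈ normalizer (Φ.map F.subtype : Set G) ∧
            ((f : G))⁻¹ * (b * f * b⁻¹) ∈ Φ.map F.subtype}
          one_mem' := ⟨one_mem _, by simp [one_mem]⟩
          mul_mem' := fun {b c} hb hc => ⟨mul_mem hb.1 hc.1, by
            have := mul_mem hb.2 ((mem_normalizer_iff.1 hb.1 _).1 hc.2)
            simpa [mul_assoc] using this⟩
          inv_mem' := fun {b} hb => ⟨inv_mem hb.1, by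
            have := (mem_normalizer_iff''.1 hb.1 _).1 (inv_mem hb.2)
            simpa [mul_assoc] using this⟩ }
      refine ((zpowers_le.2 ?_ : zpowers a ≤ S) hb).2
      refine ⟨haΦ (mem_zpowers a), _, hmem, ?_⟩
      simp
    obtain ⟨n, hn, hc⟩ := Signalizer.exists_fixed_in_coset hA haΦ (fun hd => by
      obtain ⟨j, hj⟩ := (hF.to_le (map_subtype_le Φ)).exists_card_eq
      exact htr ((Nat.prime_dvd_prime_iff_eq Fact.out Fact.out).1
        ((Fact.out : r.Prime).dvd_of_dvd_pow (hj ▸ hd))).symm) hpre
    rw [Signalizer.centralizer_zpowers] at hc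
    obtain ⟨n', hn', rfl⟩ := hn
    have hcP := mem_centralizer_iff.1 (hC ⟨F.mul_mem f.2 n'.2, hc⟩) y y.2
    have e : QuotientGroup.mk (s := Φ) f = QuotientGroup.mk (f * n') := by
      rw [QuotientGroup.eq]; simpa using hn'
    rw [e]
    refine congrArg QuotientGroup.mk (Subtype.ext ?_)
    show (y : G) * (f * n' : F) * (y : G)⁻¹ = (f * n' : F)
    rw [Subgroup.coe_mul]
    change (y : G) * ((f : G) * (n' : G)) * (y : G)⁻¹ = _
    rw [hcP, mul_inv_cancel_right]
  intro x hx f hf
  set c := x * a * x⁻¹ * a⁻¹ with hc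
  have hxF := hPF hx
  have hcF : c ∈ normalizer (F : Set G) := mul_mem (mul_mem (mul_mem hxF haF) (inv_mem hxF))
    (inv_mem haF)
  have hφx : ((φ ⟨x, hx⟩ : P) : G) = a * x * a⁻¹ := rfl
  have hcP : c ∈ P := by
    have := mul_mem hx (inv_mem (φ ⟨x, hx⟩).2)
    rw [hφx] at this
    simpa [hc, mul_assoc] using this
  have hex' : NonExc r s ∨ ∀ u v : P, u * v = v * u := hex.imp id fun h u v => h.is_comm.comm u v
  have key := trivial_of_fixed_centralized htr hts hsr hquot σ φ τ hP hex' hφ hτ hστ hfix ⟨x, hx⟩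
  have hact : act ⟨c, hcF⟩ = 1 := by
    have e : (⟨c, hcF⟩ : ↥(normalizer (F : Set G))) =
        ⟨x, hxF⟩ * (⟨a * x * a⁻¹, mul_mem (mul_mem haF hxF) (inv_mem haF)⟩)⁻¹ :=
      Subtype.ext (by simp [hc, mul_assoc])
    rw [e, map_mul, map_inv, mul_inv_eq_one]
    exact key.symm
  refine PGroup.commute_of_coprime_of_frattini hF ?_ hcF (fun w hw => ?_) f hf
  · obtain ⟨j, hj⟩ := hP ⟨c, hcP⟩
    refine Nat.Coprime.coprime_dvd_left (orderOf_dvd_of_pow_eq_one (congrArg Subtype.val hj)) ?_
    exact ((Nat.coprime_primes Fact.out Fact.out).2 hts.symm).pow_left j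
  · have h := congrArg (fun e : MulAut (F ⧸ Φ) => e (QuotientGroup.mk ⟨w, hw⟩)) hact
    simp only [act_mk, MulAut.one_apply] at h
    exact ⟨_, QuotientGroup.eq.1 h.symm, rfl⟩

end Group

end Cfsg.Agent.SignalizerAll
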